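import Groth.Prelude.Def_MultCurve
import Groth.Agent.Synt29.ConormalSeq
import Groth.Agent.Synt29.RibbonClosed
import Groth.Agent.InvX.Tensor

/-!
# The conormal sheaf of a square-zero ideal: principal generators and frames
-/

set_option autoImplicit false
set_option backward.isDefEq.respectTransparency false
set_option backward.isDefEq.respectTransparency.types false
set_option linter.style.haveILetI false

universe u

open CategoryTheory AlgebraicGeometry TopologicalSpace Opposite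

namespace Groth.Agent.RibbonX

open Groth.Agent Groth.Agent.Synt29
open Groth.Agent.Synt29.OmegaStalk Groth.Agent.KFlatLib

variable {C : Scheme.{u}}

/-- Membership in the ideal of an affine open is checked on stalks. -/
theorem mem_of_germ {U : C.affineOpens} (J : Ideal Γ(C, U.1)) (a : Γ(C, U.1))
    (h : ∀ y (hy : y ∈ U.1), C.presheaf.germ U.1 y hy a ∈ J.map (C.presheaf.germ U.1 y hy).hom) :
    a ∈ J := by
  by_contra ha
  have hne : J.colon (Ideal.span {a} : Submodule Γ(C, U.1) Γ(C, U.1)) ≠ ⊤ := fun hc => ha (by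
    have h1 : (1 : Γ(C, U.1)) ∈ J.colon (Ideal.span {a} : Submodule Γ(C, U.1) Γ(C, U.1)) := hc ▸ trivial
    have := Submodule.mem_colon.1 h1 a (Ideal.mem_span_singleton_self a)
    rwa [smul_eq_mul, one_mul] at this)
  obtain ⟨P, hP, hle⟩ := Ideal.exists_le_maximal _ hne
  let q : PrimeSpectrum Γ(C, U.1) := ⟨P, hP.isPrime⟩
  have hq : U.2.fromSpec q ∈ U.1 := U.2.opensRange_fromSpec.le ⟨q, rfl⟩
  letI := TopCat.Presheaf.algebra_section_stalk C.presheaf (⟨U.2.fromSpec q, hq⟩ : U.1)
  haveI : IsLocalization.AtPrime (C.presheaf.stalk (U.2.fromSpec q)) P := U.2.isLocalization_stalk' q hq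
  obtain ⟨s, hs, hsa⟩ :=
    (IsLocalization.algebraMap_mem_map_algebraMap_iff P.primeCompl (C.presheaf.stalk (U.2.fromSpec q)) J a).1
      (h _ hq)
  refine hs (hle (Submodule.mem_colon.2 fun b hb => ?_))
  change b ∈ Ideal.span {a} at hb
  obtain ⟨c, rfl⟩ := Ideal.mem_span_singleton'.1 hb
  rw [smul_eq_mul, mul_left_comm]
  exact J.mul_mem_left c hsa

variable {D : Scheme.{u}} (i : D ⟶ C)

/-- The kernel of the stalk map is the extended ideal. -/
theorem ker_stalkMap_eq [IsClosedImmersion i] (x : D) (U : C.affineOpens) (hU : i x ∈ U.1) :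
    RingHom.ker (i.stalkMap x).hom = (i.ker.ideal U).map (C.presheaf.germ U.1 (i x) hU).hom := by
  refine le_antisymm (fun a ha => ?_) (Ideal.map_le_iff_le_comap.2 fun e he => ?_)
  · obtain ⟨m, W, hW, k, -, rfl⟩ := ConormalStalk.exists_rep i (RingHom.mem_ker.1 ha)
    obtain ⟨f, hfW, hf⟩ := U.2.exists_basicOpen_le (V := U.1 ⊓ W) ⟨i x, hU, hW⟩ hU
    let Uf : C.affineOpens := C.affineBasicOpen f
    have hfW' : Uf.1 ≤ W := hfW.trans inf_le_right
    have h1 := OmegaLib.idealSect_mem i.ker Uf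
      ((ClSub.idealMod i.ker).presheaf.map (homOfLE hfW').op k)
    rw [OmegaLib.idealSect_map i.ker hfW', ← i.ker.map_ideal_basicOpen U f] at h1
    have h2 := Ideal.mem_map_of_mem (C.presheaf.germ Uf.1 (i x) hf).hom h1
    rw [Ideal.map_map] at h2
    erw [← CommRingCat.hom_comp, C.presheaf.germ_res (homOfLE (C.basicOpen_le f)) (i x) hf] at h2
    exact (C.presheaf.germ_res_apply (homOfLE hfW') (i x) hf _).symm ▸ h2
  · obtain ⟨k, rfl⟩ := OmegaLib.exists_of_mem i.ker U e he
    exact RingHom.mem_ker.2 (ConormalStalk.rep_mem i ⟨U.1, hU, k, rfl, rfl⟩)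

theorem ker_mul_eq_zero [IsClosedImmersion i] (h2 : i.ker ^ 2 = ⊥) (x : D) {a b : C.presheaf.stalk (i x)}
    (ha : i.stalkMap x a = 0) (hb : i.stalkMap x b = 0) : a * b = 0 := by
  obtain ⟨_, ⟨U, hU, rfl⟩, hxU, -⟩ :=
    C.isBasis_affineOpens.exists_subset_of_mem_open (Set.mem_univ (i x)) isOpen_univ
  have h : a * b ∈ RingHom.ker (i.stalkMap x).hom ^ 2 := by
    rw [sq]; exact Ideal.mul_mem_mul ha hb
  rw [ker_stalkMap_eq i x ⟨U, hU⟩ hxU, ← Ideal.map_pow] at h
  have h0 : (i.ker.ideal ⟨U, hU⟩) ^ 2 = ⊥ := by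
    rw [← Pi.pow_apply, ← Scheme.IdealSheafData.ideal_pow, h2]; rfl
  rwa [h0, Ideal.map_bot, Ideal.mem_bot] at h

theorem ker_sq_eq_bot [IsClosedImmersion i] (h2 : i.ker ^ 2 = ⊥) (x : D) :
    RingHom.ker (i.stalkMap x).hom ^ 2 = ⊥ := by
  rw [sq, eq_bot_iff]
  exact Ideal.mul_le.2 fun a ha b hb => ker_mul_eq_zero i h2 x ha hb

/-- The class of `c · k` at `x`. -/
theorem smul_class {x : D} {W : C.Opens} (hx : x ∈ i ⁻¹ᵁ W) (k : Γ(ClSub.idealMod i.ker, W))
    {U : C.Opens} (hxU : x ∈ i ⁻¹ᵁ U) (m : Γ(ClSub.idealMod i.ker, U)) [IsClosedImmersion i]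
    (h2 : i.ker ^ 2 = ⊥) (c : C.presheaf.stalk (i x)) :
    gm (Omega.conormal i) hxU (OmegaSh.conormalSect i U m) =
        i.stalkMap x c • gm (Omega.conormal i) hx (OmegaSh.conormalSect i W k) ↔
      C.presheaf.germ U (i x) hxU (OmegaSh.idealSect i.ker U m) =
        c * C.presheaf.germ W (i x) hx (OmegaSh.idealSect i.ker W k) := by
  let I := ConormalStalk.I i
  let P := (stalkPullbackIso i x).app I
  have hb := ConcreteCategory.bijective_of_isIso P.hom
  have e1 : P.hom (gm (Omega.conormal i) hx (OmegaSh.conormalSect i W k)) =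
      ConormalStalk.unit1 i x (gm I hx k) := stalkPullbackIso_gm i I x hx k
  have e2 : P.hom (gm (Omega.conormal i) hxU (OmegaSh.conormalSect i U m)) =
      ConormalStalk.unit1 i x (gm I hxU m) := stalkPullbackIso_gm i I x hxU m
  have e3 : P.hom (i.stalkMap x c • gm (Omega.conormal i) hx (OmegaSh.conormalSect i W k)) =
      ConormalStalk.unit1 i x (c • gm I hx k) := by
    rw [ConormalStalk.unit1_smul, ← e1]
    exact map_smul P.hom.hom _ _
  have hinj : Function.Injective (ConormalStalk.unit1 i x) := by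
    intro u v huv
    obtain ⟨a, ha⟩ := ConormalStalk.rep_exists i (i x) (u - v)
    have h0 : ConormalStalk.unit1 i x (u - v) = 0 := (map_sub _ u v).trans (sub_eq_zero.2 huv)
    have := ConormalSeq.mem_sq_of_unit1_eq_zero i (i.stalkMap_surjective x) ha h0
    rw [ker_sq_eq_bot i h2, Ideal.mem_bot] at this
    subst this
    exact sub_eq_zero.1 (ConormalStalk.rep_inj i ha (ConormalStalk.rep_zero i _))
  constructor
  · intro h
    have h1 := hinj (e2.symm.trans ((congrArg P.hom h).trans e3))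
    exact ConormalSeq.rep_unique i ⟨U, hxU, m, rfl, rfl⟩
      (h1 ▸ ConormalStalk.rep_smul i ⟨W, hx, k, rfl, rfl⟩ c)
  · intro h
    refine hb.1 (e2.trans (Eq.trans (congrArg (ConormalStalk.unit1 i x) ?_) e3.symm))
    exact ConormalStalk.rep_inj i ⟨U, hxU, m, rfl, rfl⟩
      (h ▸ ConormalStalk.rep_smul i ⟨W, hx, k, rfl, rfl⟩ c)

/-- A section of the ideal frames the conormal sheaf at a point iff it generates the ideal with
annihilator equal to the ideal. -/
theorem bijective_smul_class_iff [IsClosedImmersion i] (h2 : i.ker ^ 2 = ⊥) {x : D} {W : C.Opens}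
    (hx : x ∈ i ⁻¹ᵁ W) (k : Γ(ClSub.idealMod i.ker, W)) :
    Function.Bijective (fun c : D.presheaf.stalk x =>
        c • gm (Omega.conormal i) hx (OmegaSh.conormalSect i W k)) ↔
      RingHom.ker (i.stalkMap x).hom ≤ Ideal.span {C.presheaf.germ W (i x) hx (OmegaSh.idealSect i.ker W k)} ∧
        ∀ c, c * C.presheaf.germ W (i x) hx (OmegaSh.idealSect i.ker W k) = 0 → i.stalkMap x c = 0 := by
  set z := C.presheaf.germ W (i x) hx (OmegaSh.idealSect i.ker W k)
  set g := gm (Omega.conormal i) hx (OmegaSh.conormalSect i W k) with hg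
  have hzero : ∀ c : C.presheaf.stalk (i x), c * z = 0 ↔ i.stalkMap x c • g = 0 := fun c => by
    have := smul_class i hx k hx 0 h2 c
    simp only [map_zero] at this
    exact ⟨fun h => (this.2 h.symm).symm, fun h => (this.1 h.symm).symm⟩
  constructor
  · intro hb
    refine ⟨fun a ha => ?_, fun c hc => hb.1 ?_⟩
    · obtain ⟨-, U, hxU, m, -, rfl⟩ := ConormalStalk.exists_rep i (RingHom.mem_ker.1 ha)
      obtain ⟨d, hd⟩ := hb.2 (gm (Omega.conormal i) hxU (OmegaSh.conormalSect i U m))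
      obtain ⟨c, rfl⟩ := i.stalkMap_surjective x d
      exact Ideal.mem_span_singleton'.2 ⟨c, ((smul_class i hx k hxU m h2 c).1 hd.symm).symm⟩
    · show _ • g = _ • g
      rw [zero_smul]; exact (hzero c).1 hc
  · rintro ⟨hgen, hann⟩
    refine ⟨fun a b hab => ?_, fun v => ?_⟩
    · obtain ⟨a, rfl⟩ := i.stalkMap_surjective x a
      obtain ⟨b, rfl⟩ := i.stalkMap_surjective x b
      have : i.stalkMap x (a - b) • g = 0 := by
        rw [map_sub, sub_smul]; exact sub_eq_zero.2 hab
      have := hann _ ((hzero _).2 this)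
      rwa [map_sub, sub_eq_zero] at this
    · obtain ⟨U, hxU, m, rfl⟩ := ConormalStalk.exists_conormalSect i x v
      obtain ⟨c, hc⟩ := Ideal.mem_span_singleton'.1
        (hgen (RingHom.mem_ker.2 (ConormalStalk.rep_mem i ⟨U, hxU, m, rfl, rfl⟩)))
      exact ⟨i.stalkMap x c, ((smul_class i hx k hxU m h2 c).2 hc.symm).symm⟩

theorem isPrincipalOfOrder_two_iff [IsClosedImmersion i] (h2 : i.ker ^ 2 = ⊥) :
    MultCurve.IsPrincipalOfOrder i.ker 2 ↔ PicF.IsInvertible (Omega.conormal i) := by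
  constructor
  · intro h
    refine InvX.isInvertible_of_frames fun x => ?_
    obtain ⟨U, hxU, z, hz, hann⟩ := h (i x)
    obtain ⟨k, hk⟩ := OmegaLib.exists_of_mem i.ker U z (hz ▸ Ideal.mem_span_singleton_self z)
    refine ⟨i ⁻¹ᵁ U.1, hxU, OmegaSh.conormalSect i U.1 k, InvX.isFrame_of_germ fun y hy => ?_⟩
    refine (bijective_smul_class_iff i h2 hy k).2 ⟨?_, fun c hc => ?_⟩
    · rw [ker_stalkMap_eq i y U hy, hz, Ideal.map_span, Set.image_singleton, hk]
    · rw [hk] at hc
      letI := TopCat.Presheaf.algebra_section_stalk C.presheaf (⟨i y, hy⟩ : U.1)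
      haveI := U.2.isLocalization_stalk ⟨i y, hy⟩
      obtain ⟨⟨a, s⟩, hs⟩ := IsLocalization.surj
        (U.2.primeIdealOf ⟨i y, hy⟩).asIdeal.primeCompl c
      have h0 : algebraMap Γ(C, U.1) (C.presheaf.stalk (i y)) (a * z) = 0 := by
        rw [map_mul, ← hs, mul_right_comm]
        show c * _ * _ = 0
        rw [show algebraMap Γ(C, U.1) (C.presheaf.stalk (i y)) z = C.presheaf.germ U.1 (i y) hy z from rfl,
          hc, zero_mul]
      obtain ⟨⟨t, ht⟩, ht0⟩ := (IsLocalization.map_eq_zero_iff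
        (U.2.primeIdealOf ⟨i y, hy⟩).asIdeal.primeCompl (C.presheaf.stalk (i y)) _).1 h0
      have hmem : t * a ∈ i.ker.ideal U := hann _ (by rw [pow_one, mul_assoc]; exact ht0)
      have hker : i.stalkMap y (C.presheaf.germ U.1 (i y) hy (t * a)) = 0 := RingHom.mem_ker.1 (by
        rw [ker_stalkMap_eq i y U hy]; exact Ideal.mem_map_of_mem _ hmem)
      have hu : IsUnit (C.presheaf.germ U.1 (i y) hy (t * s)) := by
        have := IsLocalization.map_units (C.presheaf.stalk (i y))
          (⟨t, ht⟩ * s : (U.2.primeIdealOf ⟨i y, hy⟩).asIdeal.primeCompl)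
        exact this
      rw [map_mul, show C.presheaf.germ U.1 (i y) hy a = algebraMap Γ(C, U.1) _ a from rfl, ← hs] at hker
      rw [map_mul] at hu
      have : i.stalkMap y c * i.stalkMap y (C.presheaf.germ U.1 (i y) hy t *
          C.presheaf.germ U.1 (i y) hy (s : Γ(C, U.1))) = 0 := by
        rw [← map_mul]
        refine Eq.trans (congrArg _ ?_) hker
        show c * (_ * _) = _ * (c * _)
        ring_nf
        rfl
      exact (hu.map (i.stalkMap y).hom).mul_left_eq_zero.1 this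
  · intro hinv y
    obtain ⟨x, rfl⟩ := RibbonClosed.surjective_of_sq i h2 y
    obtain ⟨V, hxV, e, he⟩ := InvX.exists_frame hinv x
    obtain ⟨U₀, hxU₀, k, hk⟩ := ConormalStalk.exists_conormalSect i x (gm (Omega.conormal i) hxV e)
    obtain ⟨T, hxT, j, j', hT⟩ := TopCat.Presheaf.germ_eq (C := AddCommGrpCat.{u})
      (Omega.conormal i).presheaf x hxU₀ hxV _ _ hk
    obtain ⟨T', hT', hTT'⟩ := i.isEmbedding.isInducing.isOpen_iff.mp T.2
    obtain ⟨_, ⟨A, hA, rfl⟩, hxA, hAle⟩ := C.isBasis_affineOpens.exists_subset_of_mem_open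
      (show i x ∈ (U₀ : Set C) ∩ T' from ⟨hxU₀, (Set.ext_iff.mp hTT' x).mpr hxT⟩) (U₀.2.inter hT')
    have hAT : i ⁻¹ᵁ A ≤ T := fun w hw => (Set.ext_iff.mp hTT' w).mp (hAle hw).2
    let z := C.presheaf.map (homOfLE (show A ≤ U₀ from fun w hw => (hAle hw).1)).op (OmegaSh.idealSect i.ker U₀ k)
    have hb : ∀ w (hw : w ∈ i ⁻¹ᵁ A), Function.Bijective (fun c : D.presheaf.stalk w =>
        c • gm (Omega.conormal i) ((hAle hw).1 : w ∈ i ⁻¹ᵁ U₀) (OmegaSh.conormalSect i U₀ k)) := fun w hw => by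
      have hwT := hAT hw
      have := he.germ_bijective (x := w) (leOfHom j' hwT)
      have hh := congrArg ((Omega.conormal i).presheaf.germ T w hwT) hT
      rw [TopCat.Presheaf.germ_res_apply, TopCat.Presheaf.germ_res_apply] at hh
      show Function.Bijective fun c : D.presheaf.stalk w => c • (Omega.conormal i).presheaf.germ _ w _ _
      rw [hh]
      exact this
    have hgz : ∀ w (hw : w ∈ i ⁻¹ᵁ A), C.presheaf.germ A (i w) hw z =
        C.presheaf.germ U₀ (i w) ((hAle hw).1) (OmegaSh.idealSect i.ker U₀ k) := fun w hw =>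
      C.presheaf.germ_res_apply _ _ _ _
    refine ⟨⟨A, hA⟩, hxA, z, le_antisymm (fun a ha => mem_of_germ _ a fun w hw => ?_) ?_, fun a ha => ?_⟩
    · obtain ⟨w, rfl⟩ := RibbonClosed.surjective_of_sq i h2 w
      rw [Ideal.map_span, Set.image_singleton]
      show _ ∈ Ideal.span {C.presheaf.germ A (i w) hw z}
      rw [hgz w hw]
      refine ((bijective_smul_class_iff i h2 (W := U₀) ((hAle hw).1) k).1 (hb w hw)).1 ?_
      rw [ker_stalkMap_eq i w ⟨A, hA⟩ hw]
      exact Ideal.mem_map_of_mem _ ha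
    · rw [Ideal.span_le, Set.singleton_subset_iff]
      have := OmegaLib.idealSect_mem i.ker ⟨A, hA⟩
        ((ClSub.idealMod i.ker).presheaf.map (homOfLE (show A ≤ U₀ from fun w hw => (hAle hw).1)).op k)
      rwa [OmegaLib.idealSect_map] at this
    · refine mem_of_germ _ a fun w hw => ?_
      obtain ⟨w, rfl⟩ := RibbonClosed.surjective_of_sq i h2 w
      rw [← ker_stalkMap_eq i w ⟨A, hA⟩ hw]
      refine RingHom.mem_ker.2 (((bijective_smul_class_iff i h2 (W := U₀) ((hAle hw).1) k).1 (hb w hw)).2 _ ?_)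
      rw [← hgz w hw]
      rw [pow_one] at ha
      show C.presheaf.germ A (i w) hw a * C.presheaf.germ A (i w) hw z = 0
      rw [← map_mul, ha, map_zero]

end Groth.Agent.RibbonX
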